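import Groth.Agent.Lib.Regular.Quotient
import Mathlib.RingTheory.RegularLocalRing.Polynomial
import Mathlib.RingTheory.Localization.Ideal
import Mathlib.Algebra.DualNumber
import Mathlib.AlgebraicGeometry.EllipticCurve.Affine.Point
import Mathlib.RingTheory.LocalRing.ResidueField.Ideal
import Mathlib.RingTheory.DiscreteValuationRing.Basic

/-!
# Regularity of affine Weierstrass models with `a₆` a uniformizer

A prime of the coordinate ring is regular as soon as the equation is not, up to a unit, in the square
of the corresponding prime of the polynomial ring. This is tested with dual numbers away from the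
point `ϖ = x = y = 0`, and by evaluation at `(0, 0)` at that point.
-/

universe u

open Polynomial IsLocalRing

namespace Groth.Agent.Lib.WeierstrassRegular

/-- A hypersurface in a regular ring is regular at the primes at which its equation has order one. -/
theorem isRegularLocalRing_of_surjective {A B : Type u} [CommRing A] [CommRing B] [IsRegularRing A]
    (g : A →+* B) (hg : Function.Surjective g) (F : A) (hker : RingHom.ker g = Ideal.span {F})
    (P : Ideal B) [P.IsPrime] (hF : ∀ c ∉ P.comap g, c * F ∉ P.comap g ^ 2) :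
    IsRegularLocalRing (Localization.AtPrime P) := by
  let Q := P.comap g
  let AQ := Localization.AtPrime Q
  have : IsRegularLocalRing AQ := IsRegularRing.isRegularLocalRing_localization Q
  have hFQ : F ∈ Q := by
    have h : F ∈ RingHom.ker g := by rw [hker]; exact Ideal.mem_span_singleton_self F
    rw [Ideal.mem_comap, (RingHom.mem_ker).mp h]
    exact P.zero_mem
  have hm : maximalIdeal AQ = Q.map (algebraMap A AQ) :=
    (Localization.AtPrime.map_eq_maximalIdeal).symm
  have h1 : algebraMap A AQ F ∈ maximalIdeal AQ := hm ▸ Ideal.mem_map_of_mem _ hFQ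
  have h2 : algebraMap A AQ F ∉ maximalIdeal AQ ^ 2 := by
    intro h
    rw [hm, ← Ideal.map_pow, IsLocalization.mem_map_algebraMap_iff Q.primeCompl] at h
    obtain ⟨⟨⟨q, hq⟩, t⟩, hqt⟩ := h
    rw [← map_mul, IsLocalization.eq_iff_exists Q.primeCompl] at hqt
    obtain ⟨c, hc⟩ := hqt
    refine hF (c * t) (Q.primeCompl.mul_mem c.2 t.2) ?_
    rw [mul_assoc, mul_comm (t : A), hc]
    exact Ideal.mul_mem_left _ _ hq
  have hle : Q.primeCompl ≤ P.primeCompl.comap g := fun a ha => ha
  have hmap : Q.primeCompl.map g = P.primeCompl := by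
    refine le_antisymm (Submonoid.map_le_iff_le_comap.mpr hle) fun b hb => ?_
    obtain ⟨a, rfl⟩ := hg b
    exact ⟨a, hb, rfl⟩
  let ψ : AQ →+* Localization.AtPrime P := IsLocalization.map _ g hle
  have hψ : Function.Surjective ψ := fun z => by
    obtain ⟨b, t, rfl⟩ := IsLocalization.exists_mk'_eq P.primeCompl z
    obtain ⟨a, rfl⟩ := hg b
    obtain ⟨s, hs⟩ := hg t
    have hs' : s ∈ Q.primeCompl := by
      change g s ∈ P.primeCompl
      rw [hs]
      exact t.2
    refine ⟨IsLocalization.mk' AQ a ⟨s, hs'⟩, ?_⟩
    rw [IsLocalization.map_mk']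
    congr 1
    exact Subtype.ext hs
  have hψker : RingHom.ker ψ = Ideal.span {algebraMap A AQ F} := by
    rw [IsLocalization.ker_map (Localization.AtPrime P) g hmap, hker, Ideal.map_span,
      Set.image_singleton]
  obtain ⟨hreg, -, -⟩ := Groth.Agent.Lib.Regular.Quotient.quotient_singleton h1 h2
  exact IsRegularLocalRing.of_ringEquiv
    ((Ideal.quotEquivOfEq hψker.symm).trans (RingHom.quotientKerEquivOfSurjective hψ))

variable {R : Type u} [CommRing R] [IsDomain R] [IsDiscreteValuationRing R]
  (W : WeierstrassCurve.Affine R)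

/-- The affine Weierstrass model is regular at a prime at which it has a nonzero partial derivative
or which is the point `ϖ = x = y = 0`. -/
theorem isRegularLocalRing_localization (h3 : W.a₃ ∈ maximalIdeal R) (h4 : W.a₄ ∈ maximalIdeal R)
    (h6 : W.a₆ ∈ maximalIdeal R) (h6' : W.a₆ ∉ maximalIdeal R ^ 2)
    (P : Ideal W.CoordinateRing) [P.IsPrime]
    (hP : W.Δ ≠ 0 ∨ ((∀ r ∈ maximalIdeal R, algebraMap R W.CoordinateRing r ∈ P) ∧
      WeierstrassCurve.Affine.CoordinateRing.mk W (C X) ∈ P ∧
      WeierstrassCurve.Affine.CoordinateRing.mk W X ∈ P)) :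
    IsRegularLocalRing (Localization.AtPrime P) := by
  let g := WeierstrassCurve.Affine.CoordinateRing.mk W
  refine isRegularLocalRing_of_surjective g AdjoinRoot.mk_surjective W.polynomial
    Ideal.mk_ker P fun c hc hcF => ?_
  let Q : Ideal R[X][X] := P.comap g
  let κ := Q.ResidueField
  let φ : R[X][X] →+* κ := algebraMap R[X][X] κ
  let i : R →+* κ := φ.comp (C.comp C)
  let x : κ := φ (C X)
  let y : κ := φ X
  have hker : ∀ a, φ a = 0 ↔ a ∈ Q := fun a => by
    rw [← RingHom.mem_ker, Ideal.ker_algebraMap_residueField]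
  have hφev : ∀ a : R[X][X], φ a = evalEvalRingHom x y (a.map (mapRingHom i)) := fun a => by
    have : φ = (evalEvalRingHom x y).comp (mapRingHom (mapRingHom i)) := by
      refine Polynomial.ringHom_ext' (Polynomial.ringHom_ext' (RingHom.ext fun r => ?_) ?_) ?_
      · simp [i]
      · simp [x]
      · simp [y]
    exact congr($this a)
  have hc' : φ c ≠ 0 := fun h => hc ((hker c).mp h)
  have hF0 : φ W.polynomial = 0 := by
    refine (hker _).mpr ?_
    rw [Ideal.mem_comap, show g W.polynomial = 0 from AdjoinRoot.mk_self]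
    exact P.zero_mem
  let W' : WeierstrassCurve.Affine κ := (W.map i).toAffine
  have heq : W'.Equation x y := by
    show W'.polynomial.evalEval x y = 0
    rw [← hF0, hφev, show W'.polynomial = W.polynomial.map (mapRingHom i) from
      WeierstrassCurve.Affine.map_polynomial W i]
    rfl
  by_cases hns : W'.Nonsingular x y
  · -- a tangent vector on which the equation does not vanish
    let Φ : κ × κ → R[X][X] →+* DualNumber κ := fun v =>
      (evalEvalRingHom (TrivSqZeroExt.inl x + TrivSqZeroExt.inr v.1)
        (TrivSqZeroExt.inl y + TrivSqZeroExt.inr v.2)).comp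
          (mapRingHom (mapRingHom ((TrivSqZeroExt.inlHom κ κ).comp i)))
    have hfst : ∀ v a, (Φ v a).fst = φ a := fun v a => by
      have : (TrivSqZeroExt.fstHom κ κ κ : DualNumber κ →+* κ).comp (Φ v) = φ := by
        refine Polynomial.ringHom_ext' (Polynomial.ringHom_ext' (RingHom.ext fun r => ?_) ?_) ?_
        · simp [Φ, i]
        · simp [Φ, x]
        · simp [Φ, y]
      exact congr($this a)
    have hvan : ∀ v, Φ v W.polynomial = 0 := fun v => by
      have h2 : ∀ a ∈ Q ^ 2, Φ v a = 0 := fun a ha => by
        rw [pow_two] at ha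
        refine Submodule.mul_induction_on ha (fun p hp q hq => ?_) fun p q hp hq => by
          rw [map_add, hp, hq, add_zero]
        ext <;> simp [map_mul, TrivSqZeroExt.fst_mul, DualNumber.snd_mul, hfst,
          (hker p).mpr hp, (hker q).mpr hq]
      have h := h2 _ hcF
      rw [map_mul] at h
      have hu : IsUnit (Φ v c) := by
        rw [TrivSqZeroExt.isUnit_iff_isUnit_fst, hfst]
        exact isUnit_iff_ne_zero.mpr hc'
      exact hu.mul_right_eq_zero.mp h
    have hsnd : ∀ v, (Φ v W.polynomial).snd =
        W'.polynomialX.evalEval x y * v.1 + W'.polynomialY.evalEval x y * v.2 := fun v => by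
      have : Φ v W.polynomial = (W.map ((TrivSqZeroExt.inlHom κ κ).comp i)).toAffine.polynomial.evalEval
          (TrivSqZeroExt.inl x + TrivSqZeroExt.inr v.1)
          (TrivSqZeroExt.inl y + TrivSqZeroExt.inr v.2) := by
        rw [WeierstrassCurve.Affine.map_polynomial]
        rfl
      rw [this, WeierstrassCurve.Affine.evalEval_polynomial,
        WeierstrassCurve.Affine.evalEval_polynomialX, WeierstrassCurve.Affine.evalEval_polynomialY]
      simp [W', pow_succ, DualNumber.snd_mul, TrivSqZeroExt.fst_mul]
      ring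
    rcases hns.2 with h | h
    · exact h (by simpa using (hsnd (1, 0)).symm.trans (by rw [hvan]; rfl))
    · exact h (by simpa using (hsnd (0, 1)).symm.trans (by rw [hvan]; rfl))
  -- otherwise the prime is the point `ϖ = x = y = 0`
  have hz : (∀ r ∈ maximalIdeal R, i r = 0) ∧ x = 0 ∧ y = 0 := by
    rcases hP with hΔ | ⟨h1, h2, h3'⟩
    · have hΔ' : i W.Δ = 0 := by
        by_contra h
        exact hns ((WeierstrassCurve.Affine.equation_iff_nonsingular_of_Δ_ne_zero
          (show W'.Δ ≠ 0 by simpa [W', WeierstrassCurve.map_Δ] using h)).mp heq)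
      obtain ⟨ϖ, hϖ⟩ := IsDiscreteValuationRing.exists_irreducible R
      obtain ⟨n, u, hu⟩ := IsDiscreteValuationRing.eq_unit_mul_pow_irreducible hΔ hϖ
      have hm : ∀ r ∈ maximalIdeal R, i r = 0 := by
        have hw : i ϖ = 0 := by
          rw [hu, map_mul, map_pow, mul_eq_zero] at hΔ'
          exact eq_zero_of_pow_eq_zero (hΔ'.resolve_left (u.isUnit.map i).ne_zero)
        intro r hr
        rw [hϖ.maximalIdeal_eq, Ideal.mem_span_singleton] at hr
        obtain ⟨d, rfl⟩ := hr
        rw [map_mul, hw, zero_mul]
      have hX : W'.polynomialX.evalEval x y = 0 := by_contra fun h => hns ⟨heq, Or.inl h⟩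
      have hY : W'.polynomialY.evalEval x y = 0 := by_contra fun h => hns ⟨heq, Or.inr h⟩
      have he := (WeierstrassCurve.Affine.equation_iff' x y).mp heq
      rw [WeierstrassCurve.Affine.evalEval_polynomialX] at hX
      rw [WeierstrassCurve.Affine.evalEval_polynomialY] at hY
      simp only [W', WeierstrassCurve.map_a₁, WeierstrassCurve.map_a₂, WeierstrassCurve.map_a₃,
        WeierstrassCurve.map_a₄, WeierstrassCurve.map_a₆, hm _ h3, hm _ h4, hm _ h6] at he hX hY
      have hx : x = 0 := eq_zero_of_pow_eq_zero (n := 3)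
        (by linear_combination 2 * he - x * hX - y * hY)
      refine ⟨hm, hx, eq_zero_of_pow_eq_zero (n := 2) ?_⟩
      rw [hx] at he
      linear_combination he
    · refine ⟨fun r hr => (hker _).mpr ?_, (hker _).mpr h2, (hker _).mpr h3'⟩
      exact h1 r hr
  let ψ : R[X][X] →+* R := evalEvalRingHom 0 0
  have hψ : ∀ a, φ a = i (ψ a) := fun a => by
    have : φ = i.comp ψ := by
      refine Polynomial.ringHom_ext' (Polynomial.ringHom_ext' (RingHom.ext fun r => ?_) ?_) ?_
      · simp [i, ψ]
      · simpa [ψ] using hz.2.1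
      · simpa [ψ] using hz.2.2
    exact congr($this a)
  have hQ : Q.map ψ ≤ maximalIdeal R := by
    rw [Ideal.map_le_iff_le_comap]
    intro a ha
    rw [Ideal.mem_comap, mem_maximalIdeal, mem_nonunits_iff]
    intro hu
    exact (hu.map i).ne_zero ((hψ a).symm.trans ((hker a).mpr ha))
  have hcu : IsUnit (ψ c) := by
    by_contra h
    exact hc' ((hψ c).trans (hz.1 _ ((mem_maximalIdeal _).mpr h)))
  have h := Ideal.pow_right_mono hQ 2 (by
    rw [← Ideal.map_pow]
    exact Ideal.mem_map_of_mem ψ hcF)
  rw [map_mul, show ψ W.polynomial = -W.a₆ from WeierstrassCurve.Affine.evalEval_polynomial_zero]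
    at h
  exact h6' (neg_mem_iff.mp ((Ideal.unit_mul_mem_iff_mem _ hcu).mp h))

end Groth.Agent.Lib.WeierstrassRegular
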